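import Cfsg.Agent.Lib.Helper9.TC2Pack

set_option autoImplicit false
set_option maxRecDepth 100000

namespace Cfsg.Agent.Helper9.TCData.L34CX
open Cfsg.Agent.Helper9.TC2
noncomputable def entT_0 : BT := (BT.node 4 (BT.node 2 (BT.leaf 0x4080116001012811) (BT.leaf 0x49000a1003d84032)) (BT.node 6 (BT.leaf 0x4dd6a53) (BT.leaf 0xa1001820030001c280)))

noncomputable def cerT_0 : BT := (BT.node 4 (BT.node 2 (BT.leaf 0x2001002000) (BT.leaf 0x2002000080)) (BT.node 6 (BT.leaf 0x0) (BT.leaf 0x80080080adb)))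

noncomputable def lkT_0 : BT := (BT.leaf 0xa8e01a370385872000)

noncomputable def lcT_0 : BT := (BT.leaf 0x408449404049404c5d011000)

noncomputable def pnT_0 : BT := (BT.leaf 0x892841810000)

noncomputable def clsT_0 : BT := (BT.leaf 0x0)

noncomputable def repT_0 : BT := (BT.leaf 0x0)

noncomputable def tauT_0 : BT := (BT.node 4 (BT.node 2 (BT.leaf 0x0) (BT.leaf 0x0)) (BT.node 6 (BT.leaf 0x0) (BT.leaf 0x0)))


end Cfsg.Agent.Helper9.TCData.L34CX
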